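import Cfsg.Agent.H439.CC.Mult_m3
import Cfsg.Agent.H993.OC.Row
import Cfsg.Agent.H329.K4.SigCol
import Cfsg.Agent.H493.OddDeg.Psp
import Cfsg.Agent.S2299
import Cfsg.Agent.CharDeep.IrrEquiv
import Cfsg.Agent.TwoFusion.SLTwoFacts
import Cfsg.Agent.TwoUniq.PSLRank
import Cfsg.Agent.Blocks.Deflate
import Mathlib
import Cfsg.Agent.TitsThree.Siegel
import Cfsg.Agent.H875.KB.Gen
import Cfsg.Agent.Nodes.WittInst
import Cfsg.Agent.Prune
set_option linter.all false

section
prune_inst 0x7fffa9ffbbeb79dfdfff7e3ff7fccffdf3aeafffa4dff9cbffe06b9f8b9f5b1249e5fb8d8bfaf1fe1ef64a3414ec7b43fdfffeffe26bdc7ffffd5ff45ffbffdffdf7bd0951de88b41fbe0fff63f0778e7f3ffffffffffffffffffff7ffffffbeffbff7ffffff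

-- part: H774/OQ/Psl2
section
set_option linter.all false
open scoped Cfsg.Agent.FastGrp

/-!
# S4884, own characteristic: `PSL₂(Q)`, `Q` odd (helper774)

* `factor` : an irreducible character of odd degree of a perfect group is inflated from the quotient by a central
  subgroup of exponent 2;
* `exists_odd` : `PSL₂(Q)`, `Q ≥ 5` odd, has an irreducible character of odd degree `(Q ± 1) / 2`;
* `rowB_psl2`.
-/

set_option autoImplicit false

namespace Cfsg.Agent.H774.OQ

open Cfsg Subgroup Cfsg.Agent.H706.PB Cfsg.Agent.CharDeep.IrrEquiv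

universe u

/-- an irreducible character of odd degree of a perfect group is trivial on a central subgroup of exponent two -/
theorem factor {G : Type u} [Group G] [Finite G] (hG : commutator G = ⊤) {Z : Subgroup G} [Z.Normal]
    (hZ : Z ≤ center G) (h2 : ∀ z ∈ Z, z * z = 1) {χ : G → ℂ} (hχ : IsIrrCharacter G χ) (hd : Odd (charDegree χ)) :
    ∃ χ' : IrrCharacter (G ⧸ Z), χ = (χ' : G ⧸ Z → ℂ) ∘ QuotientGroup.mk := by
  classical
  have := Fintype.ofFinite Z
  refine Cfsg.Agent.Blocks.Deflate.exists_deflation Z χ hχ ?_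
  have h1n := Cfsg.Agent.Blocks.Basic.irr_one_eq_charDegree hχ
  have hval : ∀ z ∈ Z, χ z = χ 1 := by
    intro z hz
    obtain ⟨n, ρ, hρ, rfl⟩ := hχ
    have hn : charDegree ρ.character = n := by
      have h2 : ρ.character 1 = (n : ℂ) := by
        rw [Representation.char_one, Module.finrank_fin_fun]
      rw [h2] at h1n
      exact (Nat.cast_injective h1n).symm
    obtain ⟨c, hc⟩ := exists_smul_of_commute ρ hρ (ρ z) (by
      intro g
      rw [← map_mul, ← map_mul, mem_center_iff.1 (hZ hz) g])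
    have hdet : detHom ρ z = 1 := by
      have h4 : commutator G ≤ (detHom ρ).ker := Abelianization.commutator_subset_ker (detHom ρ)
      rw [hG] at h4
      exact h4 (mem_top z)
    have h3 : c ^ n = 1 := by
      have h5 : ((detHom ρ z : ℂˣ) : ℂ) = 1 := by rw [hdet]; rfl
      rw [detHom_apply, hc, LinearMap.det_smul, map_one, mul_one, Module.finrank_fin_fun] at h5
      exact h5
    rw [hn] at hd
    have hn0 : (n : ℂ) ≠ 0 := by
      have : n ≠ 0 := by
        rintro rfl
        exact absurd hd (by decide)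
      exact_mod_cast this
    have h4 : c ^ 2 = 1 := by
      have h5 : ρ.character (z * z) = n := by
        rw [h2 z hz, Representation.char_one, Module.finrank_fin_fun]
      have h6 : ρ.character (z * z) = c ^ 2 * n := by
        rw [Representation.character, map_mul, hc, smul_mul_smul_comm, mul_one, map_smul, LinearMap.trace_one,
          Module.finrank_fin_fun, smul_eq_mul, pow_two]
      rw [h5] at h6
      exact (mul_eq_right₀ hn0).1 h6.symm
    have h5 : c = 1 := by
      obtain ⟨k, rfl⟩ := hd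
      rw [pow_succ, pow_mul, h4, one_pow, one_mul] at h3
      exact h3
    rw [Representation.char_one, Representation.character, hc, h5, one_smul, LinearMap.trace_one]
  rw [Finset.sum_congr rfl fun (z : Z) _ => hval z z.2, Finset.sum_const, nsmul_eq_mul, h1n]
  have h5 : charDegree χ ≠ 0 := by
    intro h0
    rw [h0] at hd
    exact absurd hd (by decide)
  have h6 : Fintype.card Z ≠ 0 := Fintype.card_ne_zero
  rw [Finset.card_univ]
  exact_mod_cast mul_ne_zero h6 h5

section

variable {F : Type} [Field F] [Fintype F]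

/-- the irreducible character of odd degree `(Q ± 1) / 2` -/
theorem exists_odd (hodd : Odd (Fintype.card F)) (h5 : 5 ≤ Fintype.card F) :
    ∃ χ : IrrCharacter (Matrix.ProjectiveSpecialLinearGroup (Fin 2) F),
      Odd (charDegree (χ : Matrix.ProjectiveSpecialLinearGroup (Fin 2) F → ℂ)) ∧
      (charDegree (χ : Matrix.ProjectiveSpecialLinearGroup (Fin 2) F → ℂ) = (Fintype.card F + 1) / 2 ∨
        charDegree (χ : Matrix.ProjectiveSpecialLinearGroup (Fin 2) F → ℂ) = (Fintype.card F - 1) / 2) := by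
  classical
  obtain ⟨-, h⟩ := S2299.result (F := F) hodd
  obtain ⟨-, -, -, -, hp, hm⟩ := h h5
  have hSL : commutator (Matrix.SpecialLinearGroup (Fin 2) F) = ⊤ :=
    Cfsg.Agent.TwoFusion.SLTwoFacts.commutator_eq_top (F := F) (by omega)
  have key : ∃ χ : IrrCharacter (Matrix.SpecialLinearGroup (Fin 2) F),
      Odd (charDegree (χ : Matrix.SpecialLinearGroup (Fin 2) F → ℂ)) ∧
      (charDegree (χ : Matrix.SpecialLinearGroup (Fin 2) F → ℂ) = (Fintype.card F + 1) / 2 ∨
        charDegree (χ : Matrix.SpecialLinearGroup (Fin 2) F → ℂ) = (Fintype.card F - 1) / 2) := by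
    have aux : ∀ {a : ℕ}, Nat.card {χ : IrrCharacter (Matrix.SpecialLinearGroup (Fin 2) F) //
        (χ : Matrix.SpecialLinearGroup (Fin 2) F → ℂ) 1 = ((a : ℕ) : ℂ)} = 2 →
        ∃ χ : IrrCharacter (Matrix.SpecialLinearGroup (Fin 2) F),
          charDegree (χ : Matrix.SpecialLinearGroup (Fin 2) F → ℂ) = a := by
      intro a ha
      have hne : Nonempty {χ : IrrCharacter (Matrix.SpecialLinearGroup (Fin 2) F) //
          (χ : Matrix.SpecialLinearGroup (Fin 2) F → ℂ) 1 = ((a : ℕ) : ℂ)} := by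
        by_contra hcon
        rw [not_nonempty_iff] at hcon
        rw [Nat.card_of_isEmpty] at ha
        omega
      obtain ⟨χ, hχ⟩ := hne
      exact ⟨χ, Cfsg.Agent.Blocks.Basic.charDegree_of_eq hχ⟩
    obtain ⟨k, hk⟩ := hodd
    rcases Nat.even_or_odd k with he | ho
    · obtain ⟨χ, hχ⟩ := aux hp
      refine ⟨χ, ?_, Or.inl hχ⟩
      rw [hχ, hk]
      obtain ⟨j, hj⟩ := he
      exact ⟨j, by omega⟩
    · obtain ⟨χ, hχ⟩ := aux hm
      refine ⟨χ, ?_, Or.inr hχ⟩
      rw [hχ, hk]
      obtain ⟨j, hj⟩ := ho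
      exact ⟨j, by omega⟩
  obtain ⟨χ, ho, hd⟩ := key
  obtain ⟨χ', hχ'⟩ := factor hSL (Z := center (Matrix.SpecialLinearGroup (Fin 2) F)) le_rfl (fun z hz => by
    rcases Cfsg.Agent.TwoUniq.PSLRank.center_cases hz with h1 | h1
    · rw [h1, mul_one]
    · rw [h1]
      simp) χ.2 ho
  have he : charDegree (χ' : Matrix.SpecialLinearGroup (Fin 2) F ⧸ center (Matrix.SpecialLinearGroup (Fin 2) F) → ℂ) =
      charDegree (χ : Matrix.SpecialLinearGroup (Fin 2) F → ℂ) := by
    refine Cfsg.Agent.Blocks.Basic.charDegree_of_eq ?_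
    rw [← Cfsg.Agent.Blocks.Basic.irr_one_eq_charDegree χ.2, hχ', Function.comp_apply]
    rfl
  exact ⟨χ', by rw [he]; exact ho, by rw [he]; exact hd⟩

end

/-- **`RowB` for `PSL₂(Q)` in odd own characteristic.** -/
theorem rowB_psl2 {q : ℕ} [hq : Fact q.Prime] (hq2 : q ≠ 2) {F : Type} [Field F] [Fintype F] [CharP F q]
    (h4 : 4 ≤ Fintype.card F) {X : Type} [Group X] [Finite X] [IsSimpleGroup X] (hna : ¬ IsMulCommutative X)
    (e : X ≃* Matrix.ProjectiveSpecialLinearGroup (Fin 2) F) : RowB q X := by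
  obtain ⟨k, -, hk⟩ := FiniteField.card F q
  have hqodd : Odd q := hq.out.odd_of_ne_two hq2
  have hodd : Odd (Fintype.card F) := by rw [hk]; exact hqodd.pow
  have hqd : q ∣ Fintype.card F := by rw [hk]; exact dvd_pow_self q k.ne_zero
  have h5 : 5 ≤ Fintype.card F := by
    obtain ⟨j, hj⟩ := hodd
    omega
  obtain ⟨χ, ho, hd⟩ := exists_odd hodd h5
  have hL : IsLieTypeChar q X := Or.inl ⟨F, inferInstance, inferInstance, inferInstance, 2, le_rfl, fun _ => h4, ⟨e⟩⟩
  let θ : IrrCharacter X := ⟨_, Cfsg.Agent.Characters.Core.isIrr_comp (e : X →* _) e.surjective χ.2⟩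
  have hdeg : charDegree (θ : X → ℂ) = charDegree (χ : Matrix.ProjectiveSpecialLinearGroup (Fin 2) F → ℂ) :=
    charDegree_comp e _
  have hq1 : ¬ q ∣ charDegree (θ : X → ℂ) := by
    rw [hdeg]
    intro h
    have h1 : q ∣ 1 := by
      have h3 := hq.out.two_le
      rcases hd with hd | hd
      · rw [hd] at h
        have h6 : q ∣ 2 * ((Fintype.card F + 1) / 2) := Dvd.dvd.mul_left h 2
        have h7 : 2 * ((Fintype.card F + 1) / 2) = Fintype.card F + 1 := by
          obtain ⟨j, hj⟩ := hodd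
          omega
        rw [h7] at h6
        exact (Nat.dvd_add_right hqd).1 h6
      · rw [hd] at h
        have h6 : q ∣ 2 * ((Fintype.card F - 1) / 2) := Dvd.dvd.mul_left h 2
        have h7 : 2 * ((Fintype.card F - 1) / 2) = Fintype.card F - 1 := by
          obtain ⟨j, hj⟩ := hodd
          omega
        rw [h7] at h6
        have h8 : Fintype.card F - (Fintype.card F - 1) = 1 := by omega
        rw [← h8]
        exact Nat.dvd_sub hqd h6
    exact hq.out.one_lt.ne' (Nat.dvd_one.1 h1)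
  have h2 : ¬ 2 ∣ charDegree (θ : X → ℂ) := by
    rw [hdeg]
    exact fun h => (Nat.not_even_iff_odd.2 ho) (even_iff_two_dvd.2 h)
  have hF2 : (2 : F) ≠ 0 := by
    intro h0
    have h1 : ((2 : ℕ) : F) = 0 := by exact_mod_cast h0
    rw [CharP.cast_eq_zero_iff F q 2] at h1
    exact hq2 ((Nat.prime_dvd_prime_iff_eq hq.out Nat.prime_two).1 h1)
  have hT : Cfsg.Agent.H601.OddDeg.TwoC X := (H493.OddDeg.twoC_psl2 hF2).congr e.symm
  intro M2 Mq hM2 hMq
  refine ⟨θ, hT.mem_principalBlock hM2 θ h2, H993.OC.mem_b0 hq2 hna hL hMq θ hq1, ?_, h2, hq1⟩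
  intro h1
  have h3 : charDegree (θ : X → ℂ) = 1 := by
    rw [h1]
    exact Cfsg.Agent.Blocks.Basic.charDegree_of_eq (by norm_num)
  rw [hdeg] at h3
  rcases hd with hd | hd
  · omega
  · have h8 : Fintype.card F = 5 ∨ 6 ≤ Fintype.card F := by omega
    omega

end Cfsg.Agent.H774.OQ
end

-- part: H977/PG/Hyp
section
prune_inst 0x40000140400000001c00000200008115000002004000000006014200080800a0030000102000000010080000000000000000000000000000000000000000000000000000400000000000000000000000000000000000000000800000000000008000000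
set_option linter.all false
open scoped Cfsg.Agent.FastGrp

-- part: H21/PG/Base
section
/-!
# Elements of odd prime order in polar spaces (helper21, for S4884)

`H : HForm F V` a nondegenerate form on a finite space, `x` an isometry of prime order `q`, `q` odd, not the
characteristic.

* `perp`, `exists_decomp` : nondegenerate subspaces split off;
* `ext` : isometries of a nondegenerate subspace extend by the identity;
* `split_mem` : a subspace stable under `x` splits;
* `exists_isotropic` : totally isotropic subspaces of dimension smaller than the Witt index are not maximal.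
-/

set_option autoImplicit false
set_option linter.unusedSectionVars false

namespace Cfsg.Agent.H21.PG

open Cfsg.Agent.TitsThree.Siegel Module Submodule

section

variable {F : Type*} [Field F] {V : Type*} [AddCommGroup V] [Module F V] (H : HForm F V)

/-- isometry -/
def Isom (g : V ≃ₗ[F] V) : Prop := ∀ v w, H.h (g v) (g w) = H.h v w

/-- nondegenerate form -/
def ND : Prop := ∀ v, (∀ w, H.h v w = 0) → v = 0

/-- totally isotropic subspace -/
def TI (W : Submodule F V) : Prop := ∀ v ∈ W, ∀ w ∈ W, H.h v w = 0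

/-- the orthogonal space -/
def perp (W : Submodule F V) : Submodule F V where
  carrier := {v | ∀ w ∈ W, H.h v w = 0}
  add_mem' := by
    intro a b ha hb w hw
    rw [H.add_left, ha w hw, hb w hw, add_zero]
  zero_mem' := fun w _ => H.zero_left w
  smul_mem' := by
    intro c v hv w hw
    rw [H.smul_left, hv w hw, mul_zero]

/-- nondegenerate subspace -/
def Nd (E : Submodule F V) : Prop := ∀ v ∈ E, (∀ w ∈ E, H.h v w = 0) → v = 0

/-- stable subspace -/
def Stb (g : V ≃ₗ[F] V) (W : Submodule F V) : Prop := ∀ v ∈ W, g v ∈ W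

variable {H}

theorem perp_symm {W : Submodule F V} {v w : V} (hv : v ∈ perp H W) (hw : w ∈ W) : H.h w v = 0 :=
  H.orth_symm (hv w hw)

theorem Isom.inv {g : V ≃ₗ[F] V} (h : Isom H g) : Isom H g⁻¹ := by
  intro v w
  rw [← h (g⁻¹ v) (g⁻¹ w)]
  have e : ∀ v : V, g (g⁻¹ v) = v := fun v => g.apply_symm_apply v
  rw [e, e]

theorem Isom.mul {g k : V ≃ₗ[F] V} (h : Isom H g) (h' : Isom H k) : Isom H (g * k) := fun v w => by
  rw [LinearEquiv.mul_apply, LinearEquiv.mul_apply, h, h']

theorem Stb.pow {g : V ≃ₗ[F] V} {W : Submodule F V} (h : Stb g W) (n : ℕ) : Stb (g ^ n) W := by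
  induction n with
  | zero => intro v hv; rwa [pow_zero]
  | succ n ih =>
    intro v hv
    rw [pow_succ, LinearEquiv.mul_apply]
    exact ih _ (h v hv)

theorem Stb.inf {g : V ≃ₗ[F] V} {W W' : Submodule F V} (h : Stb g W) (h' : Stb g W') : Stb g (W ⊓ W') :=
  fun v hv => ⟨h v hv.1, h' v hv.2⟩

theorem TI.mono {W W' : Submodule F V} (h : TI H W') (hle : W ≤ W') : TI H W :=
  fun v hv w hw => h v (hle hv) w (hle hw)

theorem TI.le_perp {W : Submodule F V} (h : TI H W) : W ≤ perp H W := h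

end

section Fin

variable {F : Type*} [Field F] [Finite F] {V : Type*} [AddCommGroup V] [Module F V] [FiniteDimensional F V]
  {H : HForm F V}

/-- a nondegenerate subspace splits off -/
theorem exists_decomp {E : Submodule F V} (hE : Nd H E) (v : V) : ∃ e ∈ E, v - e ∈ perp H E := by
  have hfV : Finite V := Module.finite_of_finite F
  have hfE : Finite E := inferInstance
  -- `e ↦ (w ↦ h w e)`
  let φ : E → Module.Dual F E := fun e =>
    { toFun := fun w => H.h w e
      map_add' := fun a b => by rw [Submodule.coe_add, H.add_left]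
      map_smul' := fun c a => by rw [Submodule.coe_smul, H.smul_left, RingHom.id_apply, smul_eq_mul] }
  have hφ : Function.Injective φ := by
    intro a b hab
    have h1 : ∀ w : E, H.h w a = H.h w b := fun w => LinearMap.congr_fun hab w
    have h2 : (a : V) - b = 0 := by
      refine hE _ (sub_mem a.2 b.2) fun w hw => ?_
      refine H.orth_symm ?_
      rw [H.sub_right, h1 ⟨w, hw⟩, sub_self]
    exact Subtype.ext (sub_eq_zero.1 h2)
  have hc : Nat.card E = Nat.card (Module.Dual F E) := by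
    have h1 : Module.finrank F (Module.Dual F E) = Module.finrank F E := Subspace.dual_finrank_eq
    rw [Module.natCard_eq_pow_finrank (K := F) (V := E), Module.natCard_eq_pow_finrank (K := F) (V := Module.Dual F E), h1]
  have hfD : Finite (Module.Dual F E) := Module.finite_of_finite F
  have hs : Function.Surjective φ := ((Nat.bijective_iff_injective_and_card φ).2 ⟨hφ, hc⟩).2
  let f : Module.Dual F E :=
    { toFun := fun w => H.h w v
      map_add' := fun a b => by rw [Submodule.coe_add, H.add_left]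
      map_smul' := fun c a => by rw [Submodule.coe_smul, H.smul_left, RingHom.id_apply, smul_eq_mul] }
  obtain ⟨e, he⟩ := hs f
  refine ⟨e, e.2, fun w hw => ?_⟩
  have h1 : H.h w e = H.h w v := LinearMap.congr_fun he ⟨w, hw⟩
  refine H.orth_symm ?_
  rw [H.sub_right, h1, sub_self]

theorem isCompl_perp {E : Submodule F V} (hE : Nd H E) : IsCompl E (perp H E) := by
  refine isCompl_iff.2 ⟨?_, ?_⟩
  · rw [disjoint_def]
    intro v hv hv'
    exact hE v hv hv'
  · rw [codisjoint_iff, eq_top_iff]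
    intro v _
    obtain ⟨e, he, h1⟩ := exists_decomp hE v
    exact mem_sup.2 ⟨e, he, v - e, h1, by abel⟩

/-- totally isotropic subspaces of dimension smaller than that of another one are not maximal -/
theorem exists_isotropic {U W : Submodule F V} (hU : TI H U) (hW : TI H W) (hlt : finrank F U < finrank F W) :
    ∃ v ∈ W, v ∈ perp H U ∧ v ∉ U := by
  classical
  by_contra hcon
  push Not at hcon
  -- a complement of `U ⊓ W` in `U`
  obtain ⟨U', hU'⟩ := Submodule.exists_isCompl ((U ⊓ W).comap U.subtype)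
  let b := Module.finBasis F U'
  let T : W →ₗ[F] (Fin (finrank F U') → F) :=
    { toFun := fun w i => H.h w ((b i : U) : V)
      map_add' := fun a c => by funext i; exact H.add_left _ _ _
      map_smul' := fun c a => by funext i; exact H.smul_left _ _ _ }
  -- the kernel lies in `U ⊓ W`
  have hker : ∀ w : W, T w = 0 → (w : V) ∈ U := by
    intro w hw
    refine hcon w w.2 ?_
    intro u hu
    have h1 : (⟨u, hu⟩ : U) ∈ (U ⊓ W).comap U.subtype ⊔ U' := by rw [hU'.sup_eq_top]; exact mem_top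
    obtain ⟨a, ha, c, hc, hac⟩ := mem_sup.1 h1
    have h2 : H.h w (a : V) = 0 := hW w w.2 a ha.2
    have h3 : H.h w ((⟨c, hc⟩ : U') : U) = 0 := by
      have h4 : ∀ y : U', H.h w ((y : U) : V) = 0 := by
        intro y
        rw [← b.sum_repr y, Submodule.coe_sum, Submodule.coe_sum]
        have h5 : ∀ s : Finset (Fin (finrank F U')), H.h w (∑ i ∈ s, ((b.repr y i • b i : U') : U) : V) = 0 := by
          intro s
          induction s using Finset.induction_on with
          | empty => rw [Finset.sum_empty, H.zero_right]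
          | insert a s ha ih =>
            rw [Finset.sum_insert ha, H.add_right, ih, add_zero, Submodule.coe_smul, Submodule.coe_smul, H.smul_right]
            have h6 : H.h w ((b a : U) : V) = 0 := congrFun hw a
            rw [h6, mul_zero]
        exact h5 _
      exact h4 ⟨c, hc⟩
    have h6 : u = (a : V) + (c : V) := by
      rw [← Submodule.coe_add, hac]
    rw [h6, H.add_right, h2, h3, add_zero]
  have h7 : finrank F (LinearMap.ker T) ≤ finrank F ((U ⊓ W : Submodule F V)) := by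
    let j : LinearMap.ker T →ₗ[F] (U ⊓ W : Submodule F V) :=
      (W.subtype.comp (LinearMap.ker T).subtype).codRestrict _ fun w => ⟨hker w w.2, w.1.2⟩
    refine LinearMap.finrank_le_finrank_of_injective (f := j) ?_
    intro a b hab
    have h1 : ((a : W) : V) = ((b : W) : V) := congrArg (fun z : (U ⊓ W : Submodule F V) => (z : V)) hab
    exact Subtype.ext (Subtype.ext h1)
  have h8 := LinearMap.finrank_range_add_finrank_ker T
  have h9 : finrank F (LinearMap.range T) ≤ finrank F U' := by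
    have := Submodule.finrank_le (LinearMap.range T)
    rwa [Module.finrank_fin_fun] at this
  have h10 : finrank F ((U ⊓ W).comap U.subtype) + finrank F U' = finrank F U :=
    Submodule.finrank_add_eq_of_isCompl hU'
  have h11 : finrank F ((U ⊓ W).comap U.subtype) = finrank F (U ⊓ W : Submodule F V) := by
    refine LinearEquiv.finrank_eq (Submodule.comapSubtypeEquivOfLe inf_le_left)
  omega

/-- a maximal totally isotropic subspace -/
theorem false_of_max {W : Submodule F V} {m : ℕ} (hm : ∀ U : Submodule F V, TI H U → finrank F U ≤ m) (hW : TI H W)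
    (hd : finrank F W = m) {v : V} (hv : v ∈ perp H W) (h0 : H.h v v = 0) (hvW : v ∉ W) : False := by
  have h1 : TI H (W ⊔ F ∙ v) := by
    intro a ha b hb
    obtain ⟨a1, ha1, a2, ha2, rfl⟩ := mem_sup.1 ha
    obtain ⟨b1, hb1, b2, hb2, rfl⟩ := mem_sup.1 hb
    obtain ⟨s, rfl⟩ := mem_span_singleton.1 ha2
    obtain ⟨t, rfl⟩ := mem_span_singleton.1 hb2
    rw [H.add_left, H.add_right, H.add_right, H.smul_left, H.smul_left, H.smul_right, H.smul_right, h0,
      hW a1 ha1 b1 hb1, hv b1 hb1, perp_symm hv ha1]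
    ring
  have h2 : W < W ⊔ F ∙ v := by
    refine lt_of_le_of_ne le_sup_left fun h => hvW ?_
    rw [h]
    exact mem_sup_right (mem_span_singleton_self v)
  have h3 := Submodule.finrank_lt_finrank_of_lt h2
  have h4 := hm _ h1
  omega

end Fin

end Cfsg.Agent.H21.PG
end

-- part: H21/PG/Chain
section
/-!
# Primary flags and elements of order `q` (helper21, for S4884)

* `dvd_finrank` : `x` of order `q` without fixed vectors on `D`: the order of `|F|` modulo `q` divides `dim D`;
* `PF.chain` : the chain of a primary flag;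
* `chain_zero` : if no relative dimension is divisible by `d`, then the top meets `[V, x]` trivially;
* `chain_two` : two elements with `dim (W ⊓ [V, x_i]) = d`, distinct relative dimensions: contradiction.
-/

set_option autoImplicit false
set_option linter.unusedSectionVars false

namespace Cfsg.Agent.H21.PG

open Module Submodule Cfsg.Agent.H439.CC

section

variable {F : Type*} [Field F] {V : Type*} [AddCommGroup V] [Module F V]

/-- `[V, x]` -/
def Rg (x : V ≃ₗ[F] V) : Submodule F V := LinearMap.range ((x : V →ₗ[F] V) - 1)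

/-- `C_V(x)` -/
def Cg (x : V ≃ₗ[F] V) : Submodule F V := LinearMap.ker ((x : V →ₗ[F] V) - 1)

theorem mem_Cg {x : V ≃ₗ[F] V} {v : V} : v ∈ Cg x ↔ x v = v := by
  rw [Cg, LinearMap.mem_ker, LinearMap.sub_apply, Module.End.one_apply, sub_eq_zero]
  rfl

theorem sub_mem_Rg (x : V ≃ₗ[F] V) (v : V) : x v - v ∈ Rg x := ⟨v, rfl⟩

/-- the sum over `⟨x⟩` -/
def Nm (q : ℕ) (x : V ≃ₗ[F] V) (v : V) : V := ∑ i ∈ Finset.range q, (x ^ i) v

variable {q : ℕ} {x : V ≃ₗ[F] V}

theorem Nm_add (v w : V) : Nm q x (v + w) = Nm q x v + Nm q x w := by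
  simp only [Nm, map_add, Finset.sum_add_distrib]

theorem Nm_fix {v : V} (h : x v = v) : Nm q x v = (q : F) • v := by
  have h1 : ∀ i : ℕ, (x ^ i) v = v := by
    intro i
    induction i with
    | zero => rfl
    | succ i ih => rw [pow_succ, LinearEquiv.mul_apply, h, ih]
  rw [Nm, Finset.sum_congr rfl fun i _ => h1 i, Finset.sum_const, Finset.card_range, Nat.cast_smul_eq_nsmul]

theorem apply_Nm (hx : x ^ q = 1) (v : V) : x (Nm q x v) = Nm q x v := by
  have h1 : x (Nm q x v) = ∑ i ∈ Finset.range q, (x ^ (i + 1)) v := by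
    rw [Nm, map_sum]
    refine Finset.sum_congr rfl fun i _ => ?_
    rw [pow_succ', LinearEquiv.mul_apply]
  rw [h1]
  have h2 := Finset.sum_range_succ (fun i => (x ^ i) v) q
  have h3 := Finset.sum_range_succ' (fun i => (x ^ i) v) q
  rw [h2, hx, pow_zero] at h3
  exact (add_right_cancel h3).symm

theorem Nm_sub (hx : x ^ q = 1) (v : V) : Nm q x (x v - v) = 0 := by
  have h1 : Nm q x (x v) = Nm q x v := by
    rw [← apply_Nm hx v, Nm, Nm, map_sum]
    refine Finset.sum_congr rfl fun i _ => ?_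
    rw [← LinearEquiv.mul_apply, ← LinearEquiv.mul_apply, ← pow_succ, ← pow_succ']
  have h2 : Nm q x (x v) = Nm q x (x v - v) + Nm q x v := by rw [← Nm_add, sub_add_cancel]
  rw [h1] at h2
  exact left_eq_add.1 (by rw [add_comm]; exact h2)

theorem Nm_Rg (hx : x ^ q = 1) {v : V} (hv : v ∈ Rg x) : Nm q x v = 0 := by
  obtain ⟨u, rfl⟩ := hv
  exact Nm_sub hx u

theorem pow_sub_mem (v : V) (i : ℕ) : (x ^ i) v - v ∈ Rg x := by
  induction i with
  | zero => simp
  | succ i ih =>
    have h1 : (x ^ (i + 1)) v - v = (x ((x ^ i) v) - (x ^ i) v) + ((x ^ i) v - v) := by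
      rw [pow_succ', LinearEquiv.mul_apply]; abel
    rw [h1]
    exact add_mem (sub_mem_Rg x _) ih

theorem Nm_sub_mem (v : V) : (q : F) • v - Nm q x v ∈ Rg x := by
  have h1 : (q : F) • v - Nm q x v = -∑ i ∈ Finset.range q, ((x ^ i) v - v) := by
    rw [Finset.sum_sub_distrib, Finset.sum_const, Finset.card_range, Nat.cast_smul_eq_nsmul, Nm]
    abel
  rw [h1]
  exact neg_mem (sum_mem fun i _ => pow_sub_mem v i)

theorem disj (hx : x ^ q = 1) (hq : (q : F) ≠ 0) {v : V} (h1 : v ∈ Rg x) (h2 : v ∈ Cg x) : v = 0 := by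
  have h3 := Nm_Rg hx h1
  rw [Nm_fix (mem_Cg.1 h2)] at h3
  exact (smul_eq_zero.1 h3).resolve_left hq

/-- stable subspace -/
def Sb (x : V ≃ₗ[F] V) (W : Submodule F V) : Prop := ∀ v ∈ W, x v ∈ W

theorem Sb.pow {W : Submodule F V} (h : Sb x W) (n : ℕ) : ∀ v ∈ W, (x ^ n) v ∈ W := by
  induction n with
  | zero => intro v hv; rwa [pow_zero]
  | succ n ih =>
    intro v hv
    rw [pow_succ, LinearEquiv.mul_apply]
    exact ih _ (h v hv)

theorem Sb.Nm {W : Submodule F V} (h : Sb x W) {v : V} (hv : v ∈ W) : Nm q x v ∈ W :=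
  sum_mem fun i _ => h.pow i v hv

theorem Sb.Rg : Sb x (Rg x) := by
  rintro _ ⟨u, rfl⟩
  exact ⟨x u, by simp [LinearMap.sub_apply]⟩

theorem Sb.inf {W W' : Submodule F V} (h : Sb x W) (h' : Sb x W') : Sb x (W ⊓ W') :=
  fun v hv => ⟨h v hv.1, h' v hv.2⟩

/-- stable subspaces split -/
theorem Sb.split (hx : x ^ q = 1) (hq : (q : F) ≠ 0) {W : Submodule F V} (h : Sb x W) {v : V} (hv : v ∈ W) :
    ∃ a ∈ W ⊓ PG.Rg x, ∃ b ∈ W ⊓ Cg x, v = a + b := by
  refine ⟨v - (q : F)⁻¹ • PG.Nm q x v, ⟨sub_mem hv (smul_mem _ _ (h.Nm hv)), ?_⟩, (q : F)⁻¹ • PG.Nm q x v,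
    ⟨smul_mem _ _ (h.Nm hv), smul_mem _ _ (mem_Cg.2 (apply_Nm hx v))⟩, by abel⟩
  have h1 : v - (q : F)⁻¹ • PG.Nm q x v = (q : F)⁻¹ • ((q : F) • v - PG.Nm q x v) := by
    rw [smul_sub, smul_smul, inv_mul_cancel₀ hq, one_smul]
  rw [h1]
  exact smul_mem _ _ (Nm_sub_mem v)

end

section Fin

variable {F : Type*} [Field F] [Finite F] {V : Type*} [AddCommGroup V] [Module F V] [FiniteDimensional F V]
  {q : ℕ} [hqp : Fact q.Prime] {x : V ≃ₗ[F] V}

/-- **divisibility** -/
theorem dvd_finrank (hx : x ^ q = 1) {D : Submodule F V} (hD : Sb x D) (hfix : ∀ v ∈ D, x v = v → v = 0) :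
    orderOf ((Nat.card F : ℕ) : ZMod q) ∣ finrank F D := by
  classical
  have hfV : Finite V := Module.finite_of_finite F
  have hfD : Fintype D := Fintype.ofFinite _
  let f : Function.End D := fun v => ⟨x v, hD v v.2⟩
  have hf : ∀ (n : ℕ) (v : D), ((f ^ n) v : V) = (x ^ n) v := by
    intro n
    induction n with
    | zero => intro v; rfl
    | succ n ih =>
      intro v
      rw [pow_succ, pow_succ]
      change ((f ^ n) (f v) : V) = (x ^ n) (x v)
      rw [ih]
  have hfq : f ^ q ^ 1 = 1 := by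
    funext v
    apply Subtype.ext
    rw [pow_one, hf, hx]
    rfl
  have h1 := Equiv.Perm.card_fixedPoints_modEq (p := q) (n := 1) hfq
  have h2 : Fintype.card (Function.fixedPoints f) = 1 := by
    rw [Fintype.card_eq_one_iff]
    refine ⟨⟨0, ?_⟩, ?_⟩
    · apply Subtype.ext
      change x ((0 : D) : V) = _
      rw [ZeroMemClass.coe_zero, map_zero]
    · rintro ⟨v, hv⟩
      apply Subtype.ext
      apply Subtype.ext
      exact hfix v v.2 (congrArg Subtype.val hv)
  rw [h2, ← Nat.card_eq_fintype_card, Module.natCard_eq_pow_finrank (K := F) (V := D)] at h1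
  rw [orderOf_dvd_iff_pow_eq_one]
  have h3 := (ZMod.natCast_eq_natCast_iff _ _ _).2 h1
  push_cast at h3
  exact h3

theorem finrank_split (hx : x ^ q = 1) (hq : (q : F) ≠ 0) {W : Submodule F V} (h : Sb x W) :
    finrank F W = finrank F (W ⊓ Rg x : Submodule F V) + finrank F (W ⊓ Cg x : Submodule F V) := by
  have h1 : (W ⊓ Rg x) ⊔ (W ⊓ Cg x) = W := by
    apply le_antisymm (sup_le inf_le_left inf_le_left)
    intro v hv
    obtain ⟨a, ha, b, hb, rfl⟩ := h.split hx hq hv
    exact add_mem (mem_sup_left ha) (mem_sup_right hb)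
  have h2 : (W ⊓ Rg x) ⊓ (W ⊓ Cg x) = ⊥ := by
    rw [eq_bot_iff]
    rintro v ⟨h3, h4⟩
    exact disj hx hq h3.2 h4.2
  have h3 := Submodule.finrank_sup_add_finrank_inf_eq (W ⊓ Rg x) (W ⊓ Cg x)
  rw [h1, h2, finrank_bot, add_zero] at h3
  exact h3

theorem dvd_inf (hx : x ^ q = 1) (hq : (q : F) ≠ 0) {W : Submodule F V} (h : Sb x W) :
    orderOf ((Nat.card F : ℕ) : ZMod q) ∣ finrank F (W ⊓ Rg x : Submodule F V) :=
  dvd_finrank hx (h.inf Sb.Rg) fun v hv hv' => disj hx hq hv.2 (mem_Cg.2 hv')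

/-- the two alternatives for a primary quotient -/
theorem prim_cases (hx : x ^ q = 1) (hq : (q : F) ≠ 0) {A B : Submodule F V} (hA : Sb x A) (hB : Sb x B)
    (hAB : A ≤ B) (h : Prim x A B) :
    (finrank F (B ⊓ Rg x : Submodule F V) = finrank F (A ⊓ Rg x : Submodule F V)) ∨
      (∀ v ∈ B, Nm q x v ∈ A) := by
  let p1 : Polynomial F := Polynomial.X - 1
  let p2 : Polynomial F := ∑ i ∈ Finset.range q, Polynomial.X ^ i
  have h12 : p1 * p2 = Polynomial.X ^ q - 1 := by
    rw [mul_comm]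
    exact geom_sum_mul _ _
  have hev1 : ∀ v, Polynomial.aeval (x : V →ₗ[F] V) p1 v = x v - v := by
    intro v
    simp [p1]
  have hpow : ∀ (i : ℕ) (v : V), ((x : V →ₗ[F] V) ^ i) v = (x ^ i) v := by
    intro i
    induction i with
    | zero => intro v; rfl
    | succ i ih =>
      intro v
      rw [pow_succ, pow_succ, Module.End.mul_apply, LinearEquiv.mul_apply]
      exact ih _
  have hev2 : ∀ v, Polynomial.aeval (x : V →ₗ[F] V) p2 v = Nm q x v := by
    intro v
    simp only [p2, map_sum, map_pow, Polynomial.aeval_X, LinearMap.sum_apply, hpow, Nm]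
  have hcop : IsCoprime p1 p2 := by
    have h1 : Polynomial.eval 1 p2 = (q : F) := by
      simp [p2, Polynomial.eval_finset_sum]
    have h2 : p1 ∣ p2 - Polynomial.C (q : F) := by
      rw [← h1]
      exact Polynomial.X_sub_C_dvd_sub_C_eval (a := (1 : F)) (p := p2)
    obtain ⟨s, hs⟩ := h2
    refine ⟨-Polynomial.C ((q : F)⁻¹) * s, Polynomial.C ((q : F)⁻¹), ?_⟩
    have h3 : p2 = p1 * s + Polynomial.C (q : F) := by rw [← hs]; ring
    rw [h3, mul_add, ← Polynomial.C_mul, inv_mul_cancel₀ hq, Polynomial.C_1]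
    ring
  have hev12 : ∀ v, Polynomial.aeval (x : V →ₗ[F] V) (p1 * p2) v = 0 := by
    intro v
    rw [h12, map_sub, map_pow, Polynomial.aeval_X, map_one, LinearMap.sub_apply, hpow, hx, Module.End.one_apply]
    exact sub_self v
  rcases h p1 p2 hcop (fun v _ => by rw [hev12]; exact zero_mem _) with h1 | h1
  · left
    have h2 : B ⊓ Rg x = A ⊓ Rg x := by
      apply le_antisymm
      · rintro v ⟨hv, hvR⟩
        refine ⟨?_, hvR⟩
        -- `q v = q v - N v ∈ (x - 1) B`
        have h3 : Nm q x v = 0 := Nm_Rg hx hvR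
        have h4 : ∀ i : ℕ, (x ^ i) v - v ∈ A := by
          intro i
          induction i with
          | zero => simp
          | succ i ih =>
            have h5 : (x ^ (i + 1)) v - v = (x ((x ^ i) v) - (x ^ i) v) + ((x ^ i) v - v) := by
              rw [pow_succ', LinearEquiv.mul_apply]; abel
            rw [h5]
            refine add_mem ?_ ih
            rw [← hev1]
            exact h1 _ (hB.pow i v hv)
        have h5 : (q : F) • v = -∑ i ∈ Finset.range q, ((x ^ i) v - v) := by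
          rw [Finset.sum_sub_distrib, Finset.sum_const, Finset.card_range, Nat.cast_smul_eq_nsmul]
          have h6 : ∑ i ∈ Finset.range q, (x ^ i) v = 0 := h3
          rw [h6]
          abel
        have h6 : v = (q : F)⁻¹ • ((q : F) • v) := by rw [smul_smul, inv_mul_cancel₀ hq, one_smul]
        rw [h6, h5]
        exact smul_mem _ _ (neg_mem (sum_mem fun i _ => h4 i))
      · exact inf_le_inf_right _ hAB
    rw [h2]
  · right
    intro v hv
    rw [← hev2]
    exact h1 v hv

/-- if `N(B) ≤ A` then the quotient is fixed point free -/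
theorem finrank_of_Nm (hx : x ^ q = 1) (hq : (q : F) ≠ 0) {A B : Submodule F V} (hA : Sb x A) (hB : Sb x B)
    (hAB : A ≤ B) (h : ∀ v ∈ B, Nm q x v ∈ A) :
    finrank F (B ⊓ Rg x : Submodule F V) + finrank F A = finrank F (A ⊓ Rg x : Submodule F V) + finrank F B := by
  have h1 : B ⊓ Cg x = A ⊓ Cg x := by
    apply le_antisymm
    · rintro v ⟨hv, hvC⟩
      refine ⟨?_, hvC⟩
      have h2 := h v hv
      rw [Nm_fix (mem_Cg.1 hvC)] at h2
      have h6 : v = (q : F)⁻¹ • ((q : F) • v) := by rw [smul_smul, inv_mul_cancel₀ hq, one_smul]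
      rw [h6]
      exact smul_mem _ _ h2
    · exact inf_le_inf_right _ hAB
  have h2 := finrank_split hx hq hA
  have h3 := finrank_split hx hq hB
  rw [h1] at h3
  omega

end Fin

end Cfsg.Agent.H21.PG
end

-- part: H21/PG/Types
section
/-!
# The uniform core of block G of S4884 (polar types): types and targets (helper21)

`Hyp H m` : `m` hyperbolic pairs with anisotropic complement (the Witt index is `m`).
`QE H q m` : two commuting isometries `x₁`, `x₂` with `x_i ^ q = 1` and no primary digit flag of t.i. subspaces.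
`qelt_of` : from elements of `Ĝ` acting as `x₁`, `x₂` to `QElt`.

Targets (`d = orderOf (|F| : ZMod q)`):
* `KB`     : an irreducible self dual module with invariant form (helper435);
* `CaseE`  : `σ = 1`, `d` even, `d ≤ m` (helper435);
* `CaseU`  : `q ∣ r + 1` in the unitary case (helper886);
* `ChainT` : the digits used by an element along a primary flag (helper298);
* `CaseH`  : `2 d ≤ m` or `d` not a power of two (helper21);
* `CaseS`  : `m < d` (helper21).
-/

set_option autoImplicit false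
set_option linter.unusedSectionVars false

namespace Cfsg.Agent.H21.PG

open Cfsg.Agent.TitsThree.Siegel Module Submodule Cfsg.Agent.H439.CC

universe u v

section

variable {F : Type u} [Field F] {V : Type v} [AddCommGroup V] [Module F V]

/-- `m` hyperbolic pairs with anisotropic complement -/
structure Hyp (H : HForm F V) (m : ℕ) where
  u : Fin m → V
  w : Fin m → V
  uu : ∀ i j, H.h (u i) (u j) = 0
  ww : ∀ i j, H.h (w i) (w j) = 0
  uw : ∀ i j, H.h (u i) (w j) = if i = j then 1 else 0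
  ani : ∀ v, (∀ i, H.h (u i) v = 0) → (∀ i, H.h (w i) v = 0) → H.h v v = 0 → v = 0

/-- two commuting isometries of order `q` (or `1`) without primary digit flag -/
def QE (H : HForm F V) (q m : ℕ) : Prop :=
  ∃ x₁ x₂ : V ≃ₗ[F] V, Isom H x₁ ∧ Isom H x₂ ∧ x₁ ^ q = 1 ∧ x₂ ^ q = 1 ∧ x₁ * x₂ = x₂ * x₁ ∧
    ¬ PF (TI H) {x₁, x₂} (dig m) ⊥

theorem PF.mono {Adm : Submodule F V → Prop} {X Y : Set (V ≃ₗ[F] V)} (hXY : X ⊆ Y) :
    ∀ (ds : List ℕ) (A : Submodule F V), PF Adm Y ds A → PF Adm X ds A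
  | [], _, _ => trivial
  | _ :: ds, _, ⟨B, h1, h2, h3, h4, h5, h6⟩ =>
    ⟨B, h1, h2, fun x hx => h3 x (hXY hx), h4, fun x hx => h5 x (hXY hx), PF.mono hXY ds B h6⟩

/-- from elements of `Ĝ` -/
theorem qelt_of {Adm : Submodule F V → Prop} {Gh : Type*} [Group Gh] (act : Gh →* (V ≃ₗ[F] V)) {q N : ℕ}
    [hq : Fact q.Prime] (g₁ g₂ : Gh) (h1 : g₁ ^ q = 1) (h2 : g₂ ^ q = 1) (hc : g₁ * g₂ = g₂ * g₁)
    (h : ¬ PF Adm {act g₁, act g₂} (dig N) ⊥) : QElt Adm act q N := by
  have hcomm : ∀ x ∈ ({g₁, g₂} : Set Gh), ∀ y ∈ ({g₁, g₂} : Set Gh), x * y = y * x := by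
    intro x hx y hy
    rcases hx with rfl | rfl <;> rcases hy with rfl | rfl
    · rfl
    · exact hc
    · exact hc.symm
    · rfl
  refine ⟨Subgroup.closure {g₁, g₂}, ?_, ?_, fun h' => h (PF.mono ?_ _ _ h')⟩
  · intro x
    have h3 : ∀ y ∈ Subgroup.closure ({g₁, g₂} : Set Gh), y ^ q = 1 := by
      intro y hy
      have hcm : IsMulCommutative (Subgroup.closure ({g₁, g₂} : Set Gh)) :=
        Subgroup.isMulCommutative_closure hcomm
      induction hy using Subgroup.closure_induction with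
      | mem x hx =>
        rcases hx with rfl | rfl
        · exact h1
        · exact h2
      | one => exact one_pow q
      | mul x y hx hy ihx ihy =>
        have h4 : Commute x y := by
          have := hcm.is_comm.comm ⟨x, hx⟩ ⟨y, hy⟩
          exact congrArg Subtype.val this
        rw [h4.mul_pow, ihx, ihy, one_mul]
      | inv x hx ih => rw [inv_pow, ih, inv_one]
    refine ⟨1, Subtype.ext ?_⟩
    rw [pow_one]
    exact h3 x x.2
  · intro x hx y hy
    have hcm : IsMulCommutative (Subgroup.closure ({g₁, g₂} : Set Gh)) :=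
      Subgroup.isMulCommutative_closure hcomm
    exact congrArg Subtype.val (hcm.is_comm.comm ⟨x, hx⟩ ⟨y, hy⟩)
  · rintro _ (rfl | rfl)
    · exact ⟨g₁, Subgroup.subset_closure (Set.mem_insert _ _), rfl⟩
    · exact ⟨g₂, Subgroup.subset_closure (Set.mem_insert_of_mem _ rfl), rfl⟩

end

/-! ### The targets -/

/-- **(KB)** (helper435) a fixed point free isometry of order `q` of a nondegenerate `ε`-symmetric form on `F ^ d` -/
def KB : Prop :=
  ∀ (F : Type u) [Field F] [Finite F] (q : ℕ) [Fact q.Prime] (ε : F), (2 : F) ≠ 0 → (q : F) ≠ 0 → (ε = 1 ∨ ε = -1) →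
    ∀ d : ℕ, d = orderOf ((Nat.card F : ℕ) : ZMod q) → Even d →
    ∃ (B : (Fin d → F) →ₗ[F] (Fin d → F) →ₗ[F] F) (A : (Fin d → F) ≃ₗ[F] (Fin d → F)),
      (∀ a b, B b a = ε * B a b) ∧ (∀ a, (∀ b, B a b = 0) → a = 0) ∧ (∀ a b, B (A a) (A b) = B a b) ∧
      A ^ q = 1 ∧ (∀ a, A a = a → a = 0)

/-- **(CaseE)** (helper435) `σ = 1`, `d` even, `d ≤ m` -/
def CaseE : Prop :=
  ∀ (F : Type u) [Field F] [Finite F] (V : Type v) [AddCommGroup V] [Module F V] [FiniteDimensional F V]
    (H : HForm F V) (q m : ℕ) [Fact q.Prime], Hyp H m → (∀ a, H.σ a = a) → (2 : F) ≠ 0 → (q : F) ≠ 0 →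
    Even (orderOf ((Nat.card F : ℕ) : ZMod q)) → orderOf ((Nat.card F : ℕ) : ZMod q) ≤ m → QE H q m

/-- **(ChainT)** (helper298) the relative dimensions used by `x` along a primary flag -/
def ChainT : Prop :=
  ∀ (F : Type u) [Field F] [Finite F] (V : Type v) [AddCommGroup V] [Module F V] [FiniteDimensional F V]
    (q : ℕ) [Fact q.Prime] (Adm : Submodule F V → Prop) (X : Set (V ≃ₗ[F] V)), (q : F) ≠ 0 →
    ∀ (ds : List ℕ) (A : Submodule F V), PF Adm X ds A → (∀ k ∈ ds, 0 < k) → ds.Nodup → Adm A →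
    (∀ x ∈ X, A.map (x : V →ₗ[F] V) = A) →
    ∃ W : Submodule F V, A ≤ W ∧ Adm W ∧ (∀ x ∈ X, W.map (x : V →ₗ[F] V) = W) ∧
      finrank F W = finrank F A + ds.sum ∧
      ∃ T : (V ≃ₗ[F] V) → Finset ℕ, (∀ x ∈ X, x ^ q = 1 → (∀ k ∈ T x, k ∈ ds ∧
          orderOf ((Nat.card F : ℕ) : ZMod q) ∣ k) ∧
          finrank F (W ⊓ Rg x : Submodule F V) = finrank F (A ⊓ Rg x : Submodule F V) + ∑ k ∈ T x, k) ∧
        (∀ x ∈ X, ∀ y ∈ X, x ^ q = 1 → y ^ q = 1 → Rg x ≤ Cg y → Disjoint (T x) (T y))

/-- **(ChainZ)** (helper298) no relative dimension is divisible by `d` -/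
def ChainZ : Prop :=
  ∀ (F : Type u) [Field F] [Finite F] (V : Type v) [AddCommGroup V] [Module F V] [FiniteDimensional F V]
    (q : ℕ) [Fact q.Prime] (Adm : Submodule F V → Prop) (X : Set (V ≃ₗ[F] V)) (m : ℕ), (q : F) ≠ 0 →
    (¬ ∃ a : ℕ, orderOf ((Nat.card F : ℕ) : ZMod q) = 2 ^ a) → Adm ⊥ → PF Adm X (dig m) ⊥ →
    ∃ W : Submodule F V, Adm W ∧ (∀ x ∈ X, W.map (x : V →ₗ[F] V) = W) ∧ finrank F W = m ∧
      ∀ x ∈ X, x ^ q = 1 → W ⊓ Rg x = ⊥

/-- **(ChainD)** (helper298) two elements with the same digit -/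
def ChainD : Prop :=
  ∀ (F : Type u) [Field F] [Finite F] (V : Type v) [AddCommGroup V] [Module F V] [FiniteDimensional F V]
    (q : ℕ) [Fact q.Prime] (Adm : Submodule F V → Prop) (X : Set (V ≃ₗ[F] V)) (m a : ℕ), (q : F) ≠ 0 →
    Adm ⊥ → PF Adm X (dig m) ⊥ →
    ∃ W : Submodule F V, Adm W ∧ (∀ x ∈ X, W.map (x : V →ₗ[F] V) = W) ∧ finrank F W = m ∧
      ∀ x ∈ X, ∀ y ∈ X, x ^ q = 1 → y ^ q = 1 → Rg x ≤ Cg y →
        finrank F (W ⊓ Rg x : Submodule F V) = 2 ^ a → finrank F (W ⊓ Rg y : Submodule F V) = 2 ^ a → False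

/-- **(CaseH)** (helper21) `2 d ≤ m`, or `d` not a power of two and `d ≤ m` -/
def CaseH : Prop :=
  ∀ (F : Type u) [Field F] [Finite F] (V : Type v) [AddCommGroup V] [Module F V] [FiniteDimensional F V]
    (H : HForm F V) (q m : ℕ) [Fact q.Prime], Hyp H m → (2 : F) ≠ 0 → (q : F) ≠ 0 →
    (2 * orderOf ((Nat.card F : ℕ) : ZMod q) ≤ m ∨ ((¬ ∃ a : ℕ, orderOf ((Nat.card F : ℕ) : ZMod q) = 2 ^ a) ∧
      orderOf ((Nat.card F : ℕ) : ZMod q) ≤ m)) → QE H q m

/-- **(CaseS)** (helper21) `m < d` and there is an isometry of order `q` -/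
def CaseS : Prop :=
  ∀ (F : Type u) [Field F] [Finite F] (V : Type v) [AddCommGroup V] [Module F V] [FiniteDimensional F V]
    (H : HForm F V) (q m : ℕ) [Fact q.Prime], Hyp H m → (q : F) ≠ 0 → 1 ≤ m →
    (2 ≤ m ∨ finrank F V ≤ 2 * m + 1) → finrank F V ≤ 2 * m + 2 →
    m < orderOf ((Nat.card F : ℕ) : ZMod q) → (∃ x : V ≃ₗ[F] V, Isom H x ∧ x ^ q = 1 ∧ x ≠ 1) → QE H q m

/-- **the result for `σ = 1`** (psp, oodd, ominus, oplus) -/
def CoreB : Prop :=
  ∀ (F : Type u) [Field F] [Finite F] (V : Type v) [AddCommGroup V] [Module F V] [FiniteDimensional F V]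
    (H : HForm F V) (q m : ℕ) [Fact q.Prime], q ≠ 2 → Hyp H m → (∀ a, H.σ a = a) → (2 : F) ≠ 0 → (q : F) ≠ 0 → 2 ≤ m →
    finrank F V ≤ 2 * m + 2 → (∃ x : V ≃ₗ[F] V, Isom H x ∧ x ^ q = 1 ∧ x ≠ 1) → QE H q m

end Cfsg.Agent.H21.PG
end

-- part: H977/PG/Hyp
section
/-!
# S4884, block G, polar types: the standard Witt frames as `PG.Hyp` (helper977)

* `hyp_of_frame`, `hyp_of_amb` : a Witt frame with anisotropic `V0 = (frame)^⊥` is a `PG.Hyp`;
* `hypSp`, `hypU`, `hypO` (`hypOdd`, `hypMinus`, `hypPlus`) : the rows;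
* `finrank_Sp`, `finrank_U_le`, `finrank_odd`, `finrank_minus`, `finrank_plus`;
* `exists_elt` : `q ∣ |S|`, `φ : Ĝ → S` onto: an element of order `q` of `Ĝ` with `act g ≠ 1`;
* `exists_isom_Sp`, `exists_isom_U`, `exists_isom_O`;
* `mem_isos_of`, `mem_IU_of`, `mem_E_of` : isometries of odd order (and determinant `1` for `U`) are in `Ĝ`.
-/

set_option autoImplicit false
set_option linter.unusedSectionVars false

namespace Cfsg.Agent.H977.PG

open Cfsg Cfsg.Agent.H21.PG Cfsg.Agent.TitsThree Cfsg.Agent.TitsThree.Siegel Cfsg.Agent.TitsThree.SiegelGen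
  Cfsg.Agent.TitsThree.WittFrame Cfsg.Agent.TitsThree.WBridge
open Cfsg.Agent.Nodes Cfsg.Agent.Nodes.WittRoot

/-! ### Frames -/

section Frame

variable {F : Type*} [Field F] {V : Type*} [AddCommGroup V] [Module F V] {H : HForm F V} {n : ℕ}

/-- a Witt frame whose orthogonal space is anisotropic -/
def hyp_of_frame (Fr : Frame H (Fin n)) (h0 : ∀ v, (∀ x, H.h v (Fr.b x) = 0) → v ∈ Fr.V0)
    (ha : ∀ v ∈ Fr.V0, H.h v v = 0 → v = 0) : Hyp H n where
  u i := Fr.b (i, true)
  w i := Fr.b (i, false)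
  uu i j := by rw [Fr.hb]; simp
  ww i j := by rw [Fr.hb]; simp
  uw i j := by rw [Fr.hb]; simp
  ani v h1 h2 h3 := by
    refine ha v (h0 v ?_) h3
    rintro ⟨i, s⟩
    cases s
    · exact H.orth_symm (h2 i)
    · exact H.orth_symm (h1 i)

/-- from the ambient data of `Nodes.WittRoot` -/
def hyp_of_amb {Fr : Frame H (Fin n)} {G0 : Subgroup (V ≃ₗ[F] V)} (hA : Amb Fr G0) : Hyp H n :=
  hyp_of_frame Fr hA.V0 hA.aniso

end Frame

/-! ### Elements of order `q` -/

section Elt

variable {F : Type*} [Field F] {V : Type*} [AddCommGroup V] [Module F V]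

/-- Cauchy -/
theorem exists_elt {Gh S : Type*} [Group Gh] [Finite Gh] [Group S] (φ : Gh →* S) (hφ : Function.Surjective φ)
    (act : Gh →* (V ≃ₗ[F] V)) (hact : Function.Injective act) {q : ℕ} [hq : Fact q.Prime] (h : q ∣ Nat.card S) :
    ∃ g : Gh, g ^ q = 1 ∧ act g ≠ 1 := by
  have h1 : q ∣ Nat.card Gh := h.trans (Subgroup.card_dvd_of_surjective φ hφ)
  obtain ⟨g, hg⟩ := exists_prime_orderOf_dvd_card' q h1
  refine ⟨g, by rw [← hg]; exact pow_orderOf_eq_one g, fun h2 => ?_⟩
  have h3 : g = 1 := hact (by rw [h2, map_one])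
  rw [h3, orderOf_one] at hg
  exact hq.out.one_lt.ne hg

/-- the same for a group of isometries -/
theorem exists_isom_of {H : HForm F V} [Finite V] {G0 : Subgroup (V ≃ₗ[F] V)} (hiso : ∀ g ∈ G0, H.IsIso g) {S : Type*}
    [Group S] (φ : G0 →* S) (hφ : Function.Surjective φ) {q : ℕ} [hq : Fact q.Prime] (h : q ∣ Nat.card S) :
    ∃ x : V ≃ₗ[F] V, Isom H x ∧ x ^ q = 1 ∧ x ≠ 1 := by
  have hf : Finite (V ≃ₗ[F] V) :=
    Finite.of_injective (fun g : V ≃ₗ[F] V => (g : V → V)) DFunLike.coe_injective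
  obtain ⟨g, h1, h2⟩ := exists_elt φ hφ G0.subtype G0.subtype_injective h
  exact ⟨g, hiso g g.2, by rw [← Subgroup.coe_pow, h1, Subgroup.coe_one], h2⟩

end Elt

/-! ### Symplectic groups -/

section Symplectic

variable (F : Type*) [Field F] (m : ℕ)

theorem finrank_Sp : Module.finrank F (Fin m ⊕ Fin m → F) = 2 * m := by
  rw [Module.finrank_fintype_fun_eq_card, Fintype.card_sum, Fintype.card_fin, two_mul]

variable {F m}

end Symplectic

/-! ### Unitary groups -/

section Unitary

open Cfsg.Agent.LieClassical.HermBasic Cfsg.Agent.LieClassical.HermSiegel Cfsg.Agent.LieClassical.SUBasic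
open Cfsg.Agent.TitsThree.KSideU Cfsg.Agent.TitsThree.KSideUDesc

variable {F : Type*} [Field F] [Fintype F] {q N m : ℕ} (hF : Fintype.card F = q ^ 2)

/-- isometries of determinant `1` -/
theorem mem_IU_of {x : (Fin N → F) ≃ₗ[F] (Fin N → F)} (hx : Isom (HU hF N) x)
    (hd : LinearMap.det (x : (Fin N → F) →ₗ[F] (Fin N → F)) = 1) : x ∈ IU F q N := by
  have h1 : (LinearMap.toMatrix' (x : (Fin N → F) →ₗ[F] (Fin N → F))).det = 1 := by
    rw [LinearMap.det_toMatrix', hd]
  have h2 : ∀ v : Fin N → F, (LinearMap.toMatrix' (x : (Fin N → F) →ₗ[F] (Fin N → F))).mulVec v = x v := by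
    intro v
    rw [← Matrix.toLin'_apply, Matrix.toLin'_toMatrix']
    rfl
  let A : Matrix.SpecialLinearGroup (Fin N) F := ⟨_, h1⟩
  have h3 : A ∈ SU N F q := by
    rw [Cfsg.Agent.LieClassical.HermBasic.mem_SU_iff]
    intro v w
    change hermForm N F q ((LinearMap.toMatrix' (x : (Fin N → F) →ₗ[F] (Fin N → F))).mulVec v)
      ((LinearMap.toMatrix' (x : (Fin N → F) →ₗ[F] (Fin N → F))).mulVec w) = _
    rw [h2, h2]
    exact hx v w
  refine ⟨⟨A, h3⟩, ?_⟩
  apply LinearEquiv.ext
  intro v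
  rw [KSideU.toLin_apply]
  exact h2 v

end Unitary

/-! ### Orthogonal groups -/

section Orthogonal

open QuadraticMap
open Cfsg.Agent.LieClassical Cfsg.Agent.LieClassical.OrthCore Cfsg.Agent.LieClassical.OrthTrans
open Cfsg.Agent.LieClassical.OrthSimple Cfsg.Agent.LieClassical.OrthFinite
open Cfsg.Agent.LieClassical.OrthForms
open Cfsg.Agent.TitsThree.KSideO Cfsg.Agent.TitsThree.StdData
open Cfsg.Agent.Nodes.WittInst

section General

variable {ι : Type} [Fintype ι] [DecidableEq ι] {F : Type*} [Field F] {Q : QuadraticForm F (ι → F)} {m : ℕ}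

/-- `PΩ` -/
def hypO (W : WFrame (PO Q) m) (h2 : (2 : F) ≠ 0) : Hyp (HO Q) m := hyp_of_amb (amb_O_of_two W h2)

theorem exists_isom_O [Finite F] (hG : Good Q) {q : ℕ} [Fact q.Prime] (h : q ∣ Nat.card (Cfsg.POmega F Q)) :
    ∃ x : (ι → F) ≃ₗ[F] (ι → F), Isom (HO Q) x ∧ x ^ q = 1 ∧ x ≠ 1 :=
  exists_isom_of (H := HO Q) (fun _ hg v w => polar_map (E_le_O hg) v w) (toPOmega hG) (toPOmega_surjective hG) h

theorem mem_O_of (h2 : (2 : F) ≠ 0) {x : (ι → F) ≃ₗ[F] (ι → F)} (hx : Isom (HO Q) x) : x ∈ O Q := by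
  rw [mem_O]
  intro v
  have h1 : polar Q (x v) (x v) = polar Q v v := hx v v
  rw [polar_self', polar_self'] at h1
  exact mul_left_cancel₀ h2 h1

/-- isometries of odd order are in `E Q` -/
theorem mem_E_of (hG : Good Q) (h2 : (2 : F) ≠ 0) {q : ℕ} [hq : Fact q.Prime] (hq2 : q ≠ 2)
    {x : (ι → F) ≃ₗ[F] (ι → F)} (hx : Isom (HO Q) x) (hxq : x ^ q = 1) : x ∈ E Q :=
  H875.KB.mem_E_of_pow hG (mem_O_of h2 hx) (hq.out.odd_of_ne_two hq2) hxq

end General

variable (m : ℕ) (F : Type*) [Field F]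

theorem finrank_odd : Module.finrank F (Unit ⊕ (Fin m ⊕ Fin m) → F) = 2 * m + 1 := by
  rw [Module.finrank_fintype_fun_eq_card, Fintype.card_sum, Fintype.card_sum, Fintype.card_fin, Fintype.card_unit]
  omega

theorem finrank_plus : Module.finrank F (Fin m ⊕ Fin m → F) = 2 * m := finrank_Sp F m

theorem finrank_minus : Module.finrank F ((Fin m ⊕ Fin m) ⊕ Fin 2 → F) = 2 * m + 2 := by
  rw [Module.finrank_fintype_fun_eq_card, Fintype.card_sum, Fintype.card_sum, Fintype.card_fin, Fintype.card_fin]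
  omega

end Orthogonal

end Cfsg.Agent.H977.PG
end

private theorem dce_9fc4bb876a94 : _root_.True := by
  try have : _root_.True := by simp only [_root_.Cfsg.Agent.H21.PG.Cg.eq_1]
  try have : _root_.True := by simp only [_root_.Cfsg.hermForm.eq_1]
  try have : _root_.True := by simp only [_root_.Cfsg.Agent.H21.PG.Nm.eq_1]
  exact _root_.True.intro
end
end
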